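import Groth.Agent.S0604
import Groth.Agent.S2677
import Groth.Agent.Lib.ModM1.Stalk
import Groth.Agent.Lib.ModM1.Coh
import Groth.Agent.Lib.RegLoc.GlobalDim
import Groth.Agent.Lib.Depth.CM
import Groth.Prelude.Def_CohB1
import Mathlib.Topology.KrullDimension
import Mathlib.RingTheory.Spectrum.Prime.Topology

/-!
Rectified depth on a regular biequidimensional scheme.
-/

set_option autoImplicit false
set_option linter.style.haveILetI false
set_option backward.isDefEq.respectTransparency false

universe u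

open CategoryTheory AlgebraicGeometry TopologicalSpace

namespace Groth.Agent.BiEquiDim5

open RegLoc

theorem pd_of_semilinear {R S : Type u} [CommRing R] [CommRing S] [IsNoetherianRing R] (σ : R ≃+* S) :
    ∀ (n : ℕ) (M N : Type u) [AddCommGroup M] [Module R M] [AddCommGroup N] [Module S N] [Module.Finite R M]
      (e : M ≃+ N), (∀ (r : R) (m : M), e (r • m) = σ r • e m) → PD R M n → PD S N n := by
  haveI := RingHomInvPair.of_ringEquiv σ
  haveI := RingHomInvPair.symm (σ : R →+* S) (σ.symm : S →+* R)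
  intro n
  induction n with
  | zero =>
    intro M N _ _ _ _ _ e he h
    rw [pd_zero_iff] at h ⊢
    let e' : M ≃ₛₗ[(σ : R →+* S)] N := { e with map_smul' := he }
    exact Module.Projective.of_equiv e'
  | succ n ih =>
    intro M N _ _ _ _ _ e he h
    obtain ⟨m, f, hf⟩ := Module.Finite.exists_fin' R M
    rw [pd_succ_iff f hf] at h
    haveI : Module.Finite R f.ker := Module.Finite.iff_fg.2 (IsNoetherian.noetherian _)
    let c : (Fin m → R) ≃+ (Fin m → S) := AddEquiv.piCongrRight fun _ => σ.toAddEquiv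
    have hc : ∀ (r : R) (v : Fin m → R), c (r • v) = σ r • c v := fun r v => funext fun i => map_mul σ r (v i)
    let g : (Fin m → S) →ₗ[S] N :=
      { toFun := fun v => e (f (c.symm v))
        map_add' := fun v w => by simp only [map_add]
        map_smul' := fun s v => by
          obtain ⟨r, rfl⟩ := σ.surjective s
          obtain ⟨v, rfl⟩ := c.surjective v
          rw [← hc, c.symm_apply_apply, c.symm_apply_apply, map_smul, he]
          rfl }
    have hg : Function.Surjective g := fun y => by
      obtain ⟨v, hv⟩ := hf (e.symm y)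
      exact ⟨c v, by show e (f (c.symm (c v))) = y; rw [c.symm_apply_apply, hv, e.apply_symm_apply]⟩
    have hmem : ∀ v, c v ∈ g.ker ↔ v ∈ f.ker := fun v => by
      show e (f (c.symm (c v))) = 0 ↔ f v = 0
      rw [c.symm_apply_apply, AddEquiv.map_eq_zero_iff]
    rw [pd_succ_iff g hg]
    refine ih f.ker g.ker
      { toFun := fun v => ⟨c v.1, (hmem v.1).2 v.2⟩
        invFun := fun w => ⟨c.symm w.1, (hmem _).1 (by rw [c.apply_symm_apply]; exact w.2)⟩
        left_inv := fun v => Subtype.ext (c.symm_apply_apply v.1)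
        right_inv := fun w => Subtype.ext (c.apply_symm_apply w.1)
        map_add' := fun v w => Subtype.ext (map_add c v.1 w.1) } (fun r v => Subtype.ext (hc r v.1)) h

variable (X : Scheme.{u}) (F : X.Modules)

/-- The projective dimension of the stalks is locally bounded above. -/
theorem exists_nhds_pd [IsLocallyNoetherian X] (hF : Coh.IsCoh F) (x : X) (e : ℕ)
    (h : PD ↑(X.presheaf.stalk x) ↑(F.presheaf.stalk x) e) :
    ∃ V : Set X, IsOpen V ∧ x ∈ V ∧ ∀ y ∈ V, PD ↑(X.presheaf.stalk y) ↑(F.presheaf.stalk y) e := by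
  haveI := hF.1
  obtain ⟨U, hU, hxU, -⟩ := exists_isAffineOpen_mem_and_subset (x := x) (U := ⊤) trivial
  haveI : IsNoetherianRing Γ(X, U) := IsLocallyNoetherian.component_noetherian ⟨U, hU⟩
  haveI := M1.finite_sections hF.1 hF.2 hU
  let G : Set (PrimeSpectrum Γ(X, U)) := {p |
    PD (Localization.AtPrime p.asIdeal) (LocalizedModule p.asIdeal.primeCompl Γ(F, U)) e}
  have key : ∀ (y : X) (hy : y ∈ U),
      hU.primeIdealOf ⟨y, hy⟩ ∈ G ↔ PD ↑(X.presheaf.stalk y) ↑(F.presheaf.stalk y) e := by
    intro y hy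
    letI := M1.stalkModule F hy
    haveI := M1.isLocalizedModule_germ F hU hy
    letI : Algebra Γ(X, U) (X.presheaf.stalk y) := (X.presheaf.germ U y hy).hom.toAlgebra
    haveI := hU.isLocalization_stalk ⟨y, hy⟩
    set S := (hU.primeIdealOf ⟨y, hy⟩).asIdeal.primeCompl
    let σ := (IsLocalization.algEquiv S (Localization S) (X.presheaf.stalk y)).toRingEquiv
    let E := IsLocalizedModule.iso S (M1.germₗ F hy)
    have he : ∀ (r : Localization S) (m : LocalizedModule S Γ(F, U)), E (r • m) = σ r • E m := by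
      intro r m
      obtain ⟨a, s, rfl⟩ := IsLocalization.exists_mk'_eq S r
      have hσ : σ (IsLocalization.mk' (Localization S) a s) = IsLocalization.mk' (X.presheaf.stalk y) a s :=
        IsLocalization.algEquiv_mk' (Q := X.presheaf.stalk y) a s
      refine (IsLocalizedModule.smul_inj (M1.germₗ F hy) s _ _).1 ?_
      rw [hσ, Submonoid.smul_def, Submonoid.smul_def]
      have h1 : (s : Γ(X, U)) • (IsLocalization.mk' (Localization S) a s • m) = a • m := by
        rw [← algebraMap_smul (Localization S) (s : Γ(X, U)), smul_smul, IsLocalization.mk'_spec',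
          algebraMap_smul]
      rw [← map_smul E, h1, map_smul E]
      show (algebraMap Γ(X, U) (X.presheaf.stalk y) a) • E m = algebraMap Γ(X, U) (X.presheaf.stalk y) (s : Γ(X, U)) •
        (IsLocalization.mk' (X.presheaf.stalk y) a s • E m)
      rw [smul_smul, IsLocalization.mk'_spec']
    constructor
    · exact pd_of_semilinear σ e _ _ E.toAddEquiv he
    · intro hh
      haveI : Module.Finite (X.presheaf.stalk y) (F.presheaf.stalk y) := M1.finite_stalk hF.1 hF.2 y
      refine pd_of_semilinear σ.symm e _ _ E.toAddEquiv.symm (fun r m => ?_) hh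
      apply E.toAddEquiv.injective
      rw [E.toAddEquiv.apply_symm_apply]
      show r • m = E (σ.symm r • E.symm m)
      rw [he, σ.apply_symm_apply, LinearEquiv.apply_symm_apply]
  have hG : IsOpen G := by
    have h2 := Groth.Agent.S2677.result Γ(X, U) Γ(F, U) e
    simp only [projectiveDimension_le_iff] at h2
    exact h2
  refine ⟨{y | ∃ hy : y ∈ U, hU.primeIdealOf ⟨y, hy⟩ ∈ G}, ?_, ⟨hxU, (key x hxU).2 h⟩,
    fun y ⟨hy, hy'⟩ => (key y hy).1 hy'⟩
  convert hU.fromSpec.isOpenEmbedding.isOpenMap _ hG using 1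
  ext y
  constructor
  · rintro ⟨hy, hy'⟩
    exact ⟨_, hy', hU.fromSpec_primeIdealOf ⟨y, hy⟩⟩
  · rintro ⟨p, hp, rfl⟩
    have hy : hU.fromSpec p ∈ U := hU.range_fromSpec.le ⟨p, rfl⟩
    refine ⟨hy, ?_⟩
    rwa [show hU.primeIdealOf ⟨_, hy⟩ = p from
      hU.fromSpec.isOpenEmbedding.injective (hU.fromSpec_primeIdealOf _)]

theorem depth_of_notMem_support [IsLocallyNoetherian X] {y : X} (hy : y ∉ CohB1.support F) :
    LocCoh.depth ↑(X.presheaf.stalk y) ↑(F.presheaf.stalk y) = ⊤ := by
  haveI : Subsingleton ↑(F.presheaf.stalk y) := not_not.1 hy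
  refine DepthLib.idealDepth_of_smul_top_eq_top ?_
  ext z
  simp [Subsingleton.elim z 0]

/-- The dimension formula at a point of the support. -/
theorem exists_eq [IsNoetherian X] (hreg : ∀ x : X, IsRegularLocalRing ↑(X.presheaf.stalk x))
    (hfin : topologicalKrullDim X < ⊤)
    (hcomp : ∀ C ∈ irreducibleComponents (X : Type u), topologicalKrullDim ↥C = topologicalKrullDim X)
    (hchain : ∀ (y : X) (T : Set X), IsClosed T → IsIrreducible T → y ∈ T →
      topologicalKrullDim ↥T = topologicalKrullDim ↥(closure ({y} : Set X)) + topologicalKrullDim ↥{t : X | t ∈ T ∧ t ⤳ y})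
    (hF : Coh.IsCoh F) (x : X) (hx : x ∈ CohB1.support F) :
    ∃ d c e D : ℕ, d + c + e = D ∧ LocCoh.depth ↑(X.presheaf.stalk x) ↑(F.presheaf.stalk x) = d ∧
      topologicalKrullDim ↥(closure ({x} : Set X)) = c ∧
      projectiveDimension (ModuleCat.of ↑(X.presheaf.stalk x) ↑(F.presheaf.stalk x)) = e ∧
      topologicalKrullDim X = D := by
  haveI := hreg x
  haveI : Nontrivial ↑(F.presheaf.stalk x) := not_subsingleton_iff_nontrivial.1 hx
  haveI : Module.Finite (X.presheaf.stalk x) (F.presheaf.stalk x) := M1.finite_stalk hF.1 hF.2 x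
  haveI : IsDomain (X.presheaf.stalk x) := RegLoc.isDomain _
  obtain ⟨d, hd⟩ := DepthLib.exists_depth_eq_natCast (R := X.presheaf.stalk x) (M := F.presheaf.stalk x)
  -- the projective dimension is finite
  set P := ModuleCat.of ↑(X.presheaf.stalk x) ↑(F.presheaf.stalk x)
  have hle : projectiveDimension P ≤ ((IsLocalRing.maximalIdeal (X.presheaf.stalk x)).spanFinrank : ℕ) :=
    (projectiveDimension_le_iff _ _).2 (RegLoc.pd_le_spanFinrank _ _ rfl _)
  have hbot : projectiveDimension P ≠ ⊥ := fun h => by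
    have := ModuleCat.subsingleton_of_isZero ((projectiveDimension_eq_bot_iff _).1 h)
    exact not_subsingleton (F.presheaf.stalk x) this
  obtain ⟨e, he⟩ : ∃ e : ℕ, projectiveDimension P = e := by
    obtain ⟨z, hz⟩ := WithBot.ne_bot_iff_exists.1 hbot
    rw [← hz] at hle ⊢
    obtain ⟨e, rfl⟩ := ENat.ne_top_iff_exists.1 (ne_top_of_le_ne_top (ENat.coe_ne_top _) (WithBot.coe_le_coe.1 hle))
    exact ⟨e, rfl⟩
  have hAB := Groth.Agent.S0604.result (X.presheaf.stalk x) (F.presheaf.stalk x) e he
  have hCM := (DepthLib.isCohenMacaulayLocalRing_of_isRegularLocalRing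
    (R := X.presheaf.stalk x)).supportDim_eq_depth
  rw [Module.supportDim_self_eq_ringKrullDim, hAB, hd] at hCM
  -- all generizations of `x` lie on its component
  set C := irreducibleComponent x
  have hC := irreducibleComponent_mem_irreducibleComponents x
  have hCcl : IsClosed C := isClosed_irreducibleComponent
  have hCirr : IsIrreducible C := isIrreducible_irreducibleComponent
  let η : X := X.fromSpecStalk x ⟨⊥, Ideal.isPrime_bot⟩
  have hη : ∀ t, t ⤳ x → η ⤳ t := fun t ht => by
    obtain ⟨q, rfl⟩ := (Scheme.range_fromSpecStalk (x := x)).symm.subset (show t ∈ {y | y ⤳ x} from ht)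
    exact ((PrimeSpectrum.le_iff_specializes ⟨⊥, Ideal.isPrime_bot⟩ q).1 bot_le).map (X.fromSpecStalk x).continuous
  obtain ⟨η', hη'⟩ := QuasiSober.sober hCirr hCcl
  have hx' : x ∈ C := mem_irreducibleComponent
  have hle' : C ⊆ closure {η} := hη'.def.symm.subset.trans (closure_minimal (Set.singleton_subset_iff.2
    (specializes_iff_mem_closure.1 (hη η' (hη'.specializes hx')))) isClosed_closure)
  have hηC : C = closure {η} := subset_antisymm hle' (hC.2 (isIrreducible_singleton.closure) hle')
  have hset : {t : X | t ∈ C ∧ t ⤳ x} = Set.range (X.fromSpecStalk x) := by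
    rw [Scheme.range_fromSpecStalk]
    ext t
    exact ⟨fun h => h.2, fun h => ⟨hηC ▸ specializes_iff_mem_closure.1 (hη t h), h⟩⟩
  have hdim : topologicalKrullDim ↥{t : X | t ∈ C ∧ t ⤳ x} = ringKrullDim (X.presheaf.stalk x) := by
    rw [hset, ← PrimeSpectrum.topologicalKrullDim_eq_ringKrullDim]
    exact (IsHomeomorph.topologicalKrullDim_eq _ (X.fromSpecStalk x).isEmbedding.toHomeomorph.isHomeomorph).symm
  have hsum := hchain x C hCcl hCirr hx'
  rw [hcomp C hC, hdim, hCM] at hsum
  -- the dimensions are natural numbers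
  haveI : Nonempty ↥(closure ({x} : Set X)) := ⟨⟨x, subset_closure rfl⟩⟩
  haveI : Nonempty (IrreducibleCloseds ↥(closure ({x} : Set X))) :=
    ⟨⟨closure {⟨x, subset_closure rfl⟩}, isIrreducible_singleton.closure, isClosed_closure⟩⟩
  have h0 : (0 : WithBot ℕ∞) ≤ topologicalKrullDim ↥(closure ({x} : Set X)) := Order.krullDim_nonneg
  have hcX : topologicalKrullDim ↥(closure ({x} : Set X)) < ⊤ :=
    lt_of_le_of_lt (Topology.IsInducing.subtypeVal.topologicalKrullDim_le) hfin
  obtain ⟨c, hc⟩ : ∃ c : ℕ, topologicalKrullDim ↥(closure ({x} : Set X)) = c := by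
    match hz : topologicalKrullDim ↥(closure ({x} : Set X)), h0, hcX with
    | ⊥, h0, _ => exact absurd h0 (by simp)
    | (⊤ : ℕ∞), _, h1 => exact absurd h1 (lt_irrefl _)
    | (c : ℕ), _, _ => exact ⟨c, rfl⟩
  refine ⟨d, c, e, d + c + e, rfl, hd, hc, he, ?_⟩
  rw [hsum, hc]
  push_cast
  abel

end Groth.Agent.BiEquiDim5
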